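import Mathlib

/-!
# Quadratic bounds for integer vectors with congruent entries
-/

namespace Cfsg.Agent.BlockCharsA.SmallCent

open Finset

/-- Pairs of unequal entries of a non-constant family carry at least `2 (n - 1)` times the weight. -/
theorem pairs_lower {ι : Type*} (s : Finset ι) (w : ι → ι → ℝ) {c : ℝ} (hc : 0 ≤ c)
    (hw : ∀ i ∈ s, ∀ j ∈ s, 0 ≤ w i j) (P : ι → Prop) [DecidablePred P]
    (hP : ∃ i ∈ s, P i) (hQ : ∃ i ∈ s, ¬ P i)
    (h : ∀ i ∈ s, ∀ j ∈ s, (P i ↔ ¬ P j) → c ≤ w i j) :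
    2 * ((s.card : ℝ) - 1) * c ≤ ∑ i ∈ s, ∑ j ∈ s, w i j := by
  set A := s.filter P with hA
  set B := s.filter (fun i => ¬ P i) with hB
  have hsplit : ∀ f : ι → ℝ, ∑ i ∈ s, f i = ∑ i ∈ A, f i + ∑ i ∈ B, f i := fun f =>
    (Finset.sum_filter_add_sum_filter_not s P f).symm
  have ha : 1 ≤ A.card := Finset.card_pos.2 (by
    obtain ⟨i, hi, hi'⟩ := hP
    exact ⟨i, Finset.mem_filter.2 ⟨hi, hi'⟩⟩)
  have hb : 1 ≤ B.card := Finset.card_pos.2 (by
    obtain ⟨i, hi, hi'⟩ := hQ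
    exact ⟨i, Finset.mem_filter.2 ⟨hi, hi'⟩⟩)
  have hcard : (s.card : ℝ) = A.card + B.card := by
    exact_mod_cast (Finset.card_filter_add_card_filter_not (s := s) P).symm
  have hle : ∀ (X Y : Finset ι), X ⊆ s → Y ⊆ s →
      (∀ i ∈ X, ∀ j ∈ Y, (P i ↔ ¬ P j)) →
      (X.card : ℝ) * Y.card * c ≤ ∑ i ∈ X, ∑ j ∈ Y, w i j := by
    intro X Y hX hY hPQ
    calc (X.card : ℝ) * Y.card * c = ∑ _i ∈ X, ∑ _j ∈ Y, c := by
          simp [mul_assoc]
      _ ≤ _ := Finset.sum_le_sum fun i hi => Finset.sum_le_sum fun j hj =>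
          h i (hX hi) j (hY hj) (hPQ i hi j hj)
  have h1 := hle A B (Finset.filter_subset _ _) (Finset.filter_subset _ _) fun i hi j hj => by
    simp only [A, B, Finset.mem_filter] at hi hj
    tauto
  have h2 := hle B A (Finset.filter_subset _ _) (Finset.filter_subset _ _) fun i hi j hj => by
    simp only [A, B, Finset.mem_filter] at hi hj
    tauto
  have hsum : ∑ i ∈ A, ∑ j ∈ B, w i j + ∑ i ∈ B, ∑ j ∈ A, w i j ≤ ∑ i ∈ s, ∑ j ∈ s, w i j := by
    rw [hsplit fun i => ∑ j ∈ s, w i j]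
    refine add_le_add ?_ ?_ <;>
      exact Finset.sum_le_sum fun i hi => Finset.sum_le_sum_of_subset_of_nonneg
        (Finset.filter_subset _ _) fun j hj _ => hw i (Finset.mem_filter.1 hi).1 j hj
  have hab : ((A.card : ℝ) + B.card - 1) ≤ A.card * B.card := by
    have ha' : (1 : ℝ) ≤ A.card := by exact_mod_cast ha
    have hb' : (1 : ℝ) ≤ B.card := by exact_mod_cast hb
    nlinarith [mul_nonneg (sub_nonneg.2 ha') (sub_nonneg.2 hb')]
  rw [hcard]
  nlinarith [mul_le_mul_of_nonneg_right hab hc]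

/-- An integer vector with entries congruent modulo `p`, measured by the form of a block with a
cyclic defect group of order `p`. -/
theorem quad_bound {ι : Type*} (X : Finset ι) (u : ι → ℤ) {p r : ℕ} (hp : p.Prime)
    (hr : X.card * r = p - 1) (lam : ℤ) (hl : ∀ i ∈ X, (p : ℤ) ∣ u i - lam)
    (hne : ∃ i ∈ X, u i ≠ 0) :
    (p : ℤ) * X.card ≤ ∑ i ∈ X, u i ^ 2 + r * (∑ i ∈ X, u i) ^ 2 := by
  classical
  obtain ⟨i₀, hi₀, hu₀⟩ := hne
  have hp2 := hp.two_le
  have he1 : 1 ≤ X.card := Finset.card_pos.2 ⟨i₀, hi₀⟩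
  have hr1 : 1 ≤ r := by
    rcases Nat.eq_zero_or_pos r with h | h
    · rw [h, mul_zero] at hr; omega
    · exact h
  have hep : X.card < p := by
    have : X.card ≤ X.card * r := Nat.le_mul_of_pos_right _ hr1
    omega
  have herp : (X.card : ℤ) * r = (p : ℤ) - 1 := by
    have := congrArg (fun n : ℕ => (n : ℤ)) hr
    push_cast [Nat.cast_sub hp.one_le] at this
    exact this
  set e : ℤ := (X.card : ℤ) with he
  set S := ∑ i ∈ X, u i with hS
  have hep' : e + 1 ≤ p := by rw [he]; exact_mod_cast hep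
  have he1' : 1 ≤ e := by rw [he]; exact_mod_cast he1
  have hp0 : (0 : ℤ) ≤ p := Int.natCast_nonneg p
  have hS0 : 0 ≤ (r : ℤ) * S ^ 2 := mul_nonneg (Int.natCast_nonneg r) (sq_nonneg _)
  have hsq : ∀ i ∈ X, u i ^ 2 ≤ ∑ j ∈ X, u j ^ 2 := fun i hi =>
    Finset.single_le_sum (fun j _ => sq_nonneg (u j)) hi
  by_cases hlam : (p : ℤ) ∣ lam
  · have hd : (p : ℤ) ∣ u i₀ := by simpa using dvd_add (hl i₀ hi₀) hlam
    have h1 : (p : ℤ) ^ 2 ≤ u i₀ ^ 2 :=
      Int.le_of_dvd (by positivity) (pow_dvd_pow_of_dvd hd 2)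
    nlinarith [hsq i₀ hi₀]
  have hnz : ∀ i ∈ X, u i ≠ 0 := fun i hi h0 => hlam (by simpa [h0] using (hl i hi).neg_right)
  by_cases hall : ∀ i ∈ X, u i = u i₀
  · have h1 : ∑ i ∈ X, u i ^ 2 = e * u i₀ ^ 2 := by
      rw [Finset.sum_congr rfl fun i hi => by rw [hall i hi], Finset.sum_const, nsmul_eq_mul]
    have h2 : S = e * u i₀ := by
      rw [hS, Finset.sum_congr rfl hall, Finset.sum_const, nsmul_eq_mul]
    have h3 : (1 : ℤ) ≤ u i₀ ^ 2 := by
      have := sq_pos_of_ne_zero hu₀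
      omega
    rw [h1, h2]
    have h4 : e * u i₀ ^ 2 + (r : ℤ) * (e * u i₀) ^ 2 = e * p * u i₀ ^ 2 := by
      linear_combination (e * u i₀ ^ 2) * herp
    rw [h4]
    nlinarith [mul_le_mul_of_nonneg_left h3 (mul_nonneg (zero_le_one.trans he1') hp0)]
  · push Not at hall
    obtain ⟨i₁, hi₁, hne₁⟩ := hall
    -- variance
    have hvar : ∑ i ∈ X, ∑ j ∈ X, (u i - u j) ^ 2 = 2 * (e * ∑ i ∈ X, u i ^ 2 - S ^ 2) := by
      simp only [sub_sq, Finset.sum_add_distrib, Finset.sum_sub_distrib, Finset.sum_const,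
        nsmul_eq_mul, ← Finset.mul_sum, ← Finset.sum_mul, ← he, hS]
      ring
    have hlow := pairs_lower X (fun i j => ((u i - u j) ^ 2 : ℤ)) (c := ((p : ℤ) ^ 2 : ℤ))
      (by positivity) (fun i _ j _ => by positivity) (fun i => u i = u i₀) ⟨i₀, hi₀, rfl⟩
      ⟨i₁, hi₁, hne₁⟩ fun i hi j hj hij => by
        have hne' : u i - u j ≠ 0 := fun h => by
          rw [sub_eq_zero] at h
          rw [h] at hij
          exact iff_not_self hij
        have hd : (p : ℤ) ∣ u i - u j := by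
          simpa using dvd_sub (hl i hi) (hl j hj)
        exact_mod_cast Int.le_of_dvd (sq_pos_of_ne_zero hne') (pow_dvd_pow_of_dvd hd 2)
    have hlow' : 2 * (e - 1) * (p : ℤ) ^ 2 ≤ ∑ i ∈ X, ∑ j ∈ X, (u i - u j) ^ 2 := by
      rw [he]
      exact_mod_cast hlow
    have hSu : ¬ (p : ℤ) ∣ S := by
      intro hd
      have h1 : (p : ℤ) ∣ S - e * lam := by
        rw [hS, show e * lam = ∑ _i ∈ X, lam by rw [Finset.sum_const, nsmul_eq_mul],
          ← Finset.sum_sub_distrib]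
        exact Finset.dvd_sum hl
      have h2 : (p : ℤ) ∣ e * lam := by simpa using dvd_sub hd h1
      rcases (Nat.prime_iff_prime_int.1 hp).dvd_mul.1 h2 with h3 | h3
      · have := Int.le_of_dvd (zero_lt_one.trans_le he1') h3
        linarith
      · exact hlam h3
    have hS1 : (1 : ℤ) ≤ S ^ 2 := by
      have := sq_pos_of_ne_zero (show S ≠ 0 from fun h => hSu (h ▸ dvd_zero _))
      omega
    refine le_of_mul_le_mul_left (a := e) ?_ (zero_lt_one.trans_le he1')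
    have h4 : e * (∑ i ∈ X, u i ^ 2 + (r : ℤ) * S ^ 2) =
        (e * ∑ i ∈ X, u i ^ 2 - S ^ 2) + (p : ℤ) * S ^ 2 := by
      linear_combination (S ^ 2) * herp
    rw [h4]
    nlinarith [mul_le_mul_of_nonneg_left hS1 hp0,
      mul_le_mul_of_nonneg_left (mul_le_mul_of_nonneg_left hep' (sub_nonneg.2 he1')) hp0]

end Cfsg.Agent.BlockCharsA.SmallCent
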