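import Mathlib
import Cfsg.Agent.S4571
import Cfsg.Agent.S4646
import Cfsg.Agent.S4652
import Cfsg.Agent.Lib.Blocks.PrimeSylow
import Cfsg.Agent.BlockCharsA.HeightInertial.Parts
import Cfsg.Agent.BlockCharsA.SmallCent.Bound

/-!
# The principal block over a central element of order `p` of a group with Sylow order `p ^ 2`
-/

set_option linter.style.haveILetI false
set_option linter.unusedSectionVars false

namespace Cfsg.Agent.BlockCharsA.SmallCent

open Cfsg.Agent.Blocks Cfsg.Agent.Characters Cfsg.Agent.BlockCharsA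
open Cfsg.Agent.BlockCharsA.RegularPart Cfsg.Agent.BlockCharsA.HeightInertial
open scoped ComplexConjugate

universe u

variable {H : Type u} [Group H] [Finite H] {p : ℕ} [Fact p.Prime] {M : Ideal Cfsg.AlgInt}

theorem regSum_self_re [Fintype H] (f : H → ℂ) :
    (regSum p f f).re = ∑ c : H, if ¬ p ∣ orderOf c then Complex.normSq (f c) else 0 := by
  classical
  rw [regSum_eq_sum, Complex.re_sum]
  refine Finset.sum_congr rfl fun c _ => ?_
  split
  · rw [Complex.mul_conj, Complex.ofReal_re]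
  · rfl

theorem rank_one_of_normalizer_le (hM : Cfsg.IsPModular p M) (P : Sylow p H)
    (hP : Subgroup.normalizer ((P : Subgroup H) : Set H) ≤
      Subgroup.centralizer ((P : Subgroup H) : Set H)) :
    Cfsg.blockRank p (Cfsg.principalBlock M H) = 1 :=
  (Cfsg.Agent.S4646.result p M hM).1 ((PairNilpotent.principal_nilpotent_iff hM).2
    (Cfsg.Agent.Transfer.NormalPComplement.hasNormalPComplement_of_normalizer_le_centralizer P hP))

theorem zpowers_normal {u : H} (hu : ∀ c : H, Commute u c) : (Subgroup.zpowers u).Normal :=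
  ⟨fun n hn g => by
    obtain ⟨k, rfl⟩ := Subgroup.mem_zpowers_iff.1 hn
    rw [(((hu g).zpow_left k).symm.eq : g * u ^ k = u ^ k * g), mul_inv_cancel_right]
    exact Subgroup.mem_zpowers_iff.2 ⟨k, rfl⟩⟩

theorem centralizer_zpowers_top {u : H} (hu : ∀ c : H, Commute u c) :
    Subgroup.centralizer ((Subgroup.zpowers u : Subgroup H) : Set H) = ⊤ :=
  eq_top_iff.2 fun c _ => Subgroup.mem_centralizer_iff.2 fun t ht => by
    obtain ⟨k, rfl⟩ := Subgroup.mem_zpowers_iff.1 ht
    exact ((hu c).zpow_left k).eq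

theorem isPGroup_zpowers {u : H} {k : ℕ} (huo : orderOf u = p ^ k) :
    IsPGroup p (Subgroup.zpowers u) :=
  IsPGroup.of_card (n := k) (by rw [Nat.card_zpowers, huo])

/-- A central element of full order leaves a single Brauer character. -/
theorem rank_one_of_central (hM : Cfsg.IsPModular p M) {u : H} (hu : ∀ c : H, Commute u c)
    (huo : orderOf u = p ^ (Nat.card H).factorization p) :
    Cfsg.blockRank p (Cfsg.principalBlock M H) = 1 := by
  refine rank_one_of_normalizer_le hM
    (Sylow.ofCard (Subgroup.zpowers u) (by rw [Nat.card_zpowers, huo])) ?_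
  rw [Sylow.coe_ofCard, centralizer_zpowers_top hu]
  exact le_top

theorem rank_one_two (hM : Cfsg.IsPModular p M) (hp2 : p = 2) {u : H} (hu : ∀ c : H, Commute u c)
    (huo : orderOf u = p) (hH : (Nat.card H).factorization p = 2) :
    Cfsg.blockRank p (Cfsg.principalBlock M H) = 1 := by
  subst hp2
  haveI := zpowers_normal hu
  have hQ : IsPGroup 2 (Subgroup.zpowers u) := isPGroup_zpowers (k := 1) (by rw [pow_one, huo])
  rw [Cfsg.Agent.S4571.result 2 M hM (Subgroup.zpowers u) hQ
    (by rw [centralizer_zpowers_top hu, sup_top_eq])]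
  set K := H ⧸ Subgroup.zpowers u
  obtain ⟨P⟩ : Nonempty (Sylow 2 K) := inferInstance
  have hcard : Nat.card (P : Subgroup K) = 2 := by
    have h1 := Subgroup.card_eq_card_quotient_mul_card_subgroup (Subgroup.zpowers u)
    rw [h1, Nat.card_zpowers, huo, Nat.factorization_mul Nat.card_pos.ne' (by norm_num),
      Finsupp.add_apply, Nat.Prime.factorization_self Nat.prime_two] at hH
    rw [P.card_eq_multiplicity, show (Nat.card K).factorization 2 = 1 from Nat.succ.inj hH,
      pow_one]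
  refine rank_one_of_normalizer_le hM P fun g hg => Subgroup.mem_centralizer_iff.2 fun t ht => ?_
  obtain ⟨a, -, huniq⟩ := (Nat.card_eq_two_iff' (1 : (P : Subgroup K))).1 hcard
  by_cases ht1 : t = 1
  · simp [ht1]
  have h1 : (⟨t, ht⟩ : (P : Subgroup K)) = a := huniq _ fun h => ht1 (congrArg Subtype.val h)
  have h2 : (⟨g * t * g⁻¹, (Subgroup.mem_normalizer_iff.1 hg t).1 ht⟩ : (P : Subgroup K)) = a :=
    huniq _ fun h => ht1 (by
      have := congrArg Subtype.val h
      simpa [mul_inv_eq_one] using this)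
  have h3 : g * t * g⁻¹ = t := congrArg Subtype.val (h2.trans h1.symm)
  exact (mul_inv_eq_iff_eq_mul.1 h3).symm

set_option maxHeartbeats 1000000 in
open scoped Classical in
/-- The regular rank of the principal block bounds from below the norm of an integral combination
of its members that meets the trivial character. -/
theorem exists_rank_bound [Fintype H] [Fintype (Cfsg.IrrCharacter H)]
    (hM : Cfsg.IsPModular p M) (hodd : p ≠ 2) {u : H} (hu : ∀ c : H, Commute u c)
    (huo : orderOf u = p) (hH : (Nat.card H).factorization p = 2) :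
    ∃ e : ℕ, 0 < e ∧ Cfsg.blockRank p (Cfsg.principalBlock M H) ≤ e ∧
      ∀ (m : Cfsg.IrrCharacter H → ℤ) (F : H → ℂ),
        (F = fun c => ∑ η ∈ Finset.univ.filter (· ∈ Cfsg.principalBlock M H),
          (m η : ℂ) * (η : H → ℂ) c) →
        regSum p F (fun _ => 1) ≠ 0 →
        (e : ℝ) ≤ (p : ℝ) ^ 2 / (Nat.card H : ℝ) * (regSum p F F).re := by
  classical
  have hp : p.Prime := Fact.out
  set Q := Subgroup.zpowers u with hQdef
  haveI hQn : Q.Normal := zpowers_normal hu
  haveI := Fintype.ofFinite (H ⧸ Q)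
  haveI := Fintype.ofFinite (Cfsg.IrrCharacter (H ⧸ Q))
  have hQp : IsPGroup p Q := isPGroup_zpowers (k := 1) (by rw [pow_one, huo])
  have hCtop := centralizer_zpowers_top hu
  have hC : ∃ k : ℕ, (Subgroup.centralizer (Q : Set H)).index = p ^ k :=
    ⟨0, by rw [hCtop, Subgroup.index_top, pow_zero]⟩
  obtain ⟨P⟩ : Nonempty (Sylow p (H ⧸ Q)) := inferInstance
  have hPc : Nat.card (P : Subgroup (H ⧸ Q)) = p := by
    have h1 := Subgroup.card_eq_card_quotient_mul_card_subgroup Q
    have h2 := hH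
    rw [h1, Nat.card_zpowers, huo, Nat.factorization_mul Nat.card_pos.ne' hp.ne_zero,
      Finsupp.add_apply, hp.factorization_self] at h2
    rw [P.card_eq_multiplicity, show (Nat.card (H ⧸ Q)).factorization p = 1 from Nat.succ.inj h2,
      pow_one]
  obtain ⟨g', K', h', v, D⟩ := exists_primeData P hPc
  set e := orderOf v with hedef
  obtain ⟨X, Y, hXY, hdisj, hXc, hYc, εX, ε, hX, hε, -, -, hrel⟩ :=
    principal_structure hM hodd P hPc e D.order_u.symm
  set r := (p - 1) / e with hrdef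
  have her : e * r = p - 1 := Nat.mul_div_cancel' (ZMod.orderOf_units_dvd_card_sub_one v)
  set Bq := Cfsg.principalBlock M (H ⧸ Q) with hBq
  set b0 := Cfsg.principalBlock M H with hb0
  have hb : Cfsg.IsPBlock M b0 := isPBlock_principal M H
  let ι : Cfsg.IrrCharacter (H ⧸ Q) → Cfsg.IrrCharacter H := fun ψ =>
    ⟨_, isIrrCharacter_comp_surjective _ (QuotientGroup.mk'_surjective Q) ψ.2⟩
  have hιv : ∀ (ψ : Cfsg.IrrCharacter (H ⧸ Q)) (c : H),
      (ι ψ : H → ℂ) c = (ψ : H ⧸ Q → ℂ) (c : H ⧸ Q) := fun ψ c => rfl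
  have hι : ∀ ψ, ψ ∈ Bq → ι ψ ∈ b0 := fun ψ h =>
    (sameBlock_inflate_iff hM hQp hC (trivIrr (H ⧸ Q)) ψ).1 h
  have hιinj : Function.Injective ι := fun ψ ψ' h => Subtype.ext (funext fun k => by
    obtain ⟨c, rfl⟩ := QuotientGroup.mk_surjective k
    exact congrFun (congrArg Subtype.val h) c)
  have hιone : ι (trivIrr (H ⧸ Q)) = trivIrr H := Subtype.ext rfl
  have hιdeg : ∀ ψ, Cfsg.charDegree (ι ψ : H → ℂ) = Cfsg.charDegree (ψ : H ⧸ Q → ℂ) := fun ψ => by
    refine Nat.cast_injective (R := ℂ) ?_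
    rw [charDegree_cast, charDegree_cast, hιv, QuotientGroup.mk_one]
  set Xf := (Set.toFinite X).toFinset with hXf
  set Yf := (Set.toFinite Y).toFinset with hYf
  have hXf' : Xf.card = e := by rw [← hXc, Nat.card_eq_card_finite_toFinset]
  have hYf' : Yf.card = r := by rw [← hYc, Nat.card_eq_card_finite_toFinset]
  have hXB : ∀ ψ ∈ Xf, ψ ∈ Bq := fun ψ h => hXY ▸ Or.inl ((Set.toFinite X).mem_toFinset.1 h)
  have hYB : ∀ ψ ∈ Yf, ψ ∈ Bq := fun ψ h => hXY ▸ Or.inr ((Set.toFinite Y).mem_toFinset.1 h)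
  have hrel' : ∀ θ ∈ Yf, ∀ y : H ⧸ Q, ¬ p ∣ orderOf y →
      (θ : H ⧸ Q → ℂ) y = ∑ χ ∈ Xf, ((ε * εX χ : ℤ) : ℂ) * (χ : H ⧸ Q → ℂ) y := by
    intro θ hθ y hy
    have h := hrel θ ((Set.toFinite Y).mem_toFinset.1 hθ) y hy
    rw [finsum_mem_eq_finite_toFinset_sum _ (Set.toFinite X)] at h
    have hε2 : (ε : ℂ) * (ε : ℂ) = 1 := by rcases hε with h' | h' <;> rw [h'] <;> simp
    simp only [Int.cast_mul, mul_assoc, ← Finset.mul_sum]
    rw [← h, ← mul_assoc, hε2, one_mul]
  refine ⟨e, orderOf_pos v, ?_, fun m F hF hne => ?_⟩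
  · -- the rank
    rw [Cfsg.Agent.S4571.result p M hM Q hQp (by rw [hCtop, sup_top_eq]), Cfsg.blockRank]
    set f := fun χ : Cfsg.IrrCharacter (H ⧸ Q) => Cfsg.pRegularPart p (χ : H ⧸ Q → ℂ) with hf
    have hle : Submodule.span ℂ (f '' Bq) ≤ Submodule.span ℂ ↑(Xf.image f) := by
      refine Submodule.span_le.2 ?_
      rintro _ ⟨θ, hθ, rfl⟩
      have hXmem : ∀ χ ∈ Xf, f χ ∈ Submodule.span ℂ (↑(Xf.image f) : Set (H ⧸ Q → ℂ)) :=
        fun χ hχ => Submodule.subset_span (Finset.mem_coe.2 (Finset.mem_image_of_mem f hχ))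
      replace hθ : θ ∈ X ∪ Y := hXY ▸ hθ
      rcases hθ with hθ | hθ
      · exact hXmem θ ((Set.toFinite X).mem_toFinset.2 hθ)
      · have : f θ = ∑ χ ∈ Xf, ((ε * εX χ : ℤ) : ℂ) • f χ := by
          funext y
          rw [Finset.sum_apply]
          by_cases hy : p ∣ orderOf y
          · simp [f, Cfsg.pRegularPart, Cfsg.IsPRegular, hy]
          · simp only [f, Cfsg.pRegularPart, Cfsg.IsPRegular, Pi.smul_apply, smul_eq_mul, hy,
              not_false_eq_true, if_true]
            exact hrel' θ ((Set.toFinite Y).mem_toFinset.2 hθ) y hy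
        show f θ ∈ _
        rw [this]
        exact Submodule.sum_mem _ fun χ hχ => Submodule.smul_mem _ _ (hXmem χ hχ)
    exact ((Submodule.finrank_mono hle).trans (finrank_span_finset_le_card _)).trans
      (Finset.card_image_le.trans_eq hXf')
  · -- the norm
    set bs := Finset.univ.filter (· ∈ b0) with hbs
    obtain ⟨z, hz, -⟩ := Contrib.exists_matrix hM hb
    have hdef : Cfsg.blockDefect p b0 = 2 := by rw [Cfsg.Agent.S4652.defect_principal hM, hH]
    set cst : ℂ := ((p ^ 2 : ℕ) : ℂ) / (Nat.card H : ℂ) with hcst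
    have hzr : ∀ η ∈ b0, ∀ η' ∈ b0, (z η η' : ℂ) =
        (Cfsg.charDegree (η' : H → ℂ) : ℂ) * ratio p (η : H → ℂ) (η' : H → ℂ) := by
      intro η hη η' hη'
      obtain ⟨w, hw, hw', -⟩ := exists_coeff hM η η'
      rw [← hz η hη η' hη', Contrib.contrib, hdef, ← Contrib.classInner_hat_regSum, ← hw', ← hw,
        hH]
    set t : Cfsg.IrrCharacter (H ⧸ Q) → ℤ := fun ψ => ∑ η ∈ bs, m η * z η (ι ψ) with ht
    have htv : ∀ ψ, ψ ∈ Bq → (t ψ : ℂ) = cst * regSum p F (ι ψ : H → ℂ) := by
      intro ψ hψ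
      rw [hF, regSum_sum_left, Finset.mul_sum, ht, Int.cast_sum]
      refine Finset.sum_congr (Finset.ext fun _ => by simp [bs, b0]) fun η hη => ?_
      rw [Int.cast_mul, ← hz η (Finset.mem_filter.1 hη).2 (ι ψ) (hι ψ hψ), Contrib.contrib, hdef]
      ring
    have htc : ∀ ψ, ψ ∈ Bq → (p : ℤ) ∣
        t ψ - (Cfsg.charDegree (ψ : H ⧸ Q → ℂ) : ℤ) * t (trivIrr (H ⧸ Q)) := by
      intro ψ hψ
      refine (ideal_intCast_iff hM _).1 ?_
      push_cast
      show Cong M _ _
      have e1 : ∀ φ, φ ∈ Bq → (t φ : ℂ) = ∑ η ∈ bs, (m η : ℂ) *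
          ((Cfsg.charDegree (φ : H ⧸ Q → ℂ) : ℂ) * ratio p (η : H → ℂ) (ι φ : H → ℂ)) := by
        intro φ hφ
        rw [ht, Int.cast_sum]
        refine Finset.sum_congr rfl fun η hη => ?_
        rw [Int.cast_mul, hzr η (Finset.mem_filter.1 hη).2 (ι φ) (hι φ hφ), hιdeg]
      have h1 : Cfsg.charDegree (trivIrr (H ⧸ Q) : H ⧸ Q → ℂ) = 1 := by
        simp [Cfsg.charDegree, trivIrr]
      rw [e1 ψ hψ, e1 _ (trivIrr_mem_principal hM), h1, Finset.mul_sum]
      refine cong_sum hM fun η _ => ?_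
      rw [Nat.cast_one, one_mul, mul_left_comm (Cfsg.charDegree _ : ℂ)]
      exact cong_mul_left hM (ring_intCast hM _) (cong_mul_left hM (ring_natCast hM _)
        (ratio_cong hM hb η (hι ψ hψ) (hι _ (trivIrr_mem_principal hM))))
    have htY : ∀ θ ∈ Yf, t θ = ε * ∑ χ ∈ Xf, εX χ * t χ := by
      intro θ hθ
      refine Int.cast_injective (α := ℂ) ?_
      rw [htv θ (hYB θ hθ), Int.cast_mul, Int.cast_sum, Finset.mul_sum,
        show regSum p F (ι θ : H → ℂ) =
          regSum p F (fun c => ∑ χ ∈ Xf, ((ε * εX χ : ℤ) : ℂ) * (ι χ : H → ℂ) c) from by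
          rw [regSum_eq_sum, regSum_eq_sum]
          refine Finset.sum_congr rfl fun c _ => ?_
          by_cases hc : p ∣ orderOf c
          · simp [hc]
          · simp only [hc, not_false_eq_true, if_true, hιv]
            rw [hrel' θ hθ _ fun h => hc (singular_of_mk c h)],
        regSum_sum_right, Finset.mul_sum]
      refine Finset.sum_congr rfl fun χ hχ => ?_
      rw [map_intCast, Int.cast_mul, Int.cast_mul, htv χ (hXB χ hχ)]
      ring
    set w : Cfsg.IrrCharacter (H ⧸ Q) → ℤ := fun χ => εX χ * t χ with hw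
    have hsgn : ∀ χ ∈ Xf, εX χ * εX χ = 1 := fun χ hχ => by
      rcases (hX χ ((Set.toFinite X).mem_toFinset.1 hχ)).1 with h | h <;> rw [h] <;> norm_num
    have hl : ∀ χ ∈ Xf, (p : ℤ) ∣ w χ - t (trivIrr (H ⧸ Q)) := by
      intro χ hχ
      have h1 := htc χ (hXB χ hχ)
      have h2 := (hX χ ((Set.toFinite X).mem_toFinset.1 hχ)).2.1
      rw [Int.modEq_iff_dvd] at h2
      have h3 : w χ - t (trivIrr (H ⧸ Q)) = εX χ * (t χ -
          (Cfsg.charDegree (χ : H ⧸ Q → ℂ) : ℤ) * t (trivIrr (H ⧸ Q))) -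
          εX χ * (εX χ - (Cfsg.charDegree (χ : H ⧸ Q → ℂ) : ℤ)) * t (trivIrr (H ⧸ Q)) := by
        rw [hw]
        linear_combination (t (trivIrr (H ⧸ Q))) * hsgn χ hχ
      rw [h3]
      exact dvd_sub (h1.mul_left _) ((h2.mul_left _).mul_right _)
    have hwne : ∃ χ ∈ Xf, w χ ≠ 0 := by
      by_contra h0
      push Not at h0
      apply hne
      have h1 : t (trivIrr (H ⧸ Q)) = 0 := by
        have htr : trivIrr (H ⧸ Q) ∈ X ∪ Y := hXY ▸ trivIrr_mem_principal hM
        rcases htr with htr | htr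
        · have hm := (Set.toFinite X).mem_toFinset.2 htr
          have h2 := h0 _ hm
          rw [hw] at h2
          exact (mul_eq_zero.1 h2).resolve_left fun h => by simpa [h] using hsgn _ hm
        · rw [htY _ ((Set.toFinite Y).mem_toFinset.2 htr), Finset.sum_eq_zero fun χ hχ => h0 χ hχ,
            mul_zero]
      have h2 := htv _ (trivIrr_mem_principal hM)
      rw [h1, hιone, Int.cast_zero, eq_comm, mul_eq_zero] at h2
      refine h2.resolve_left (div_ne_zero (natCast_p_pow_ne_zero hM 2) ?_)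
      exact Nat.cast_ne_zero.2 Nat.card_pos.ne'
    have hq := quad_bound Xf w hp (by rw [hXf']; exact her) _ hl hwne
    have hdisj' : Disjoint Xf Yf := by
      rw [Finset.disjoint_left]
      intro χ h1 h2
      exact Set.disjoint_left.1 hdisj ((Set.toFinite X).mem_toFinset.1 h1)
        ((Set.toFinite Y).mem_toFinset.1 h2)
    have hsumt : ∑ ψ ∈ Xf ∪ Yf, t ψ ^ 2 = ∑ χ ∈ Xf, w χ ^ 2 + r * (∑ χ ∈ Xf, w χ) ^ 2 := by
      have hY2 : ∑ θ ∈ Yf, t θ ^ 2 = ∑ _θ ∈ Yf, (ε * ∑ χ ∈ Xf, w χ) ^ 2 :=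
        Finset.sum_congr rfl fun θ hθ => by rw [htY θ hθ]
      rw [Finset.sum_union hdisj', hY2, Finset.sum_const, hYf', nsmul_eq_mul]
      congr 1
      · refine Finset.sum_congr rfl fun χ hχ => ?_
        rw [hw]
        linear_combination -(t χ ^ 2) * hsgn χ hχ
      · rcases hε with h | h <;> rw [h, hw] <;> ring
    -- Bessel
    have hFcl : Cfsg.IsClassFunction H F := by
      intro a b
      rw [hF]
      exact Finset.sum_congr rfl fun η _ => by rw [irr_isClassFunction η a b]
    set f : H → ℂ := hat p 1 F with hf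
    have hfval : ∀ c, f c = if ¬ p ∣ orderOf c then F c else 0 := fun c => by
      by_cases hc : p ∣ orderOf c <;> simp [f, hat, hc]
    set F' : H → ℂ := fun c => ∑ i ∈ Finset.range p, f (u ^ i * c) with hF'
    have hF'cl : Cfsg.IsClassFunction H F' := by
      intro a b
      refine Finset.sum_congr rfl fun i _ => ?_
      rw [show u ^ i * (b * a * b⁻¹) = b * (u ^ i * a) * b⁻¹ by
        simp only [← mul_assoc, ((hu b).pow_left i).eq]]
      exact hat_isClassFunction hFcl _ _
    have hmk : ∀ i : ℕ, ((u ^ i : H) : H ⧸ Q) = 1 := fun i =>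
      (QuotientGroup.eq_one_iff _).2 (Subgroup.pow_mem _ (Subgroup.mem_zpowers u) i)
    have hcoef : ∀ ψ ∈ Xf ∪ Yf, Cfsg.classInner F' (ι ψ : H → ℂ) = (t ψ : ℂ) / (p : ℂ) := by
      intro ψ hψ
      have hψB : ψ ∈ Bq := (Finset.mem_union.1 hψ).elim (hXB ψ) (hYB ψ)
      have h1 : ∀ i : ℕ, ∑ c : H, f (u ^ i * c) * conj ((ι ψ : H → ℂ) c) =
          regSum p F (ι ψ : H → ℂ) := by
        intro i
        rw [regSum_eq_sum]
        refine Fintype.sum_equiv (Equiv.mulLeft (u ^ i)) _ _ fun c => ?_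
        rw [Equiv.coe_mulLeft, hfval, hιv, hιv, QuotientGroup.mk_mul, hmk, one_mul]
        split <;> simp
      rw [classInner_def, htv ψ hψB, hF']
      simp only [Finset.sum_mul]
      rw [Finset.sum_comm, Finset.sum_congr rfl fun i _ => h1 i, Finset.sum_const,
        Finset.card_range, nsmul_eq_mul, hcst]
      have : (p : ℂ) ≠ 0 := Nat.cast_ne_zero.2 hp.ne_zero
      push_cast
      field_simp
    have hdiag : ∀ (c : H), ∀ i ∈ Finset.range p, ∀ j ∈ Finset.range p, i ≠ j →
        f (u ^ i * c) * conj (f (u ^ j * c)) = 0 := by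
      intro c i hi j hj hij
      rw [hfval, hfval]
      by_cases h1 : p ∣ orderOf (u ^ i * c)
      · simp [h1]
      by_cases h2 : p ∣ orderOf (u ^ j * c)
      · simp [h2]
      refine absurd ?_ hij
      have h3 := regular_lift_unique hp hQp hC h1 h2 (by
        rw [QuotientGroup.mk_mul, QuotientGroup.mk_mul, hmk, hmk])
      have h4 : u ^ i = u ^ j := mul_right_cancel h3
      exact pow_injOn_Iio_orderOf (by simpa [huo] using hi) (by simpa [huo] using hj) h4
    have hnorm : Cfsg.classInner F' F' = (p : ℂ) / (Nat.card H : ℂ) * regSum p F F := by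
      have h1 : ∀ c : H, F' c * conj (F' c) =
          ∑ i ∈ Finset.range p, f (u ^ i * c) * conj (f (u ^ i * c)) := by
        intro c
        rw [hF', map_sum, Finset.sum_mul_sum]
        refine Finset.sum_congr rfl fun i hi => ?_
        exact Finset.sum_eq_single i (fun j hj hne' => hdiag c i hi j hj hne'.symm)
          fun h => absurd hi h
      have h2 : ∀ i : ℕ, ∑ c : H, f (u ^ i * c) * conj (f (u ^ i * c)) = regSum p F F := by
        intro i
        rw [regSum_eq_sum]
        refine Fintype.sum_equiv (Equiv.mulLeft (u ^ i)) _ _ fun c => ?_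
        rw [Equiv.coe_mulLeft, hfval]
        split <;> simp
      rw [classInner_def, Finset.sum_congr rfl fun c _ => h1 c, Finset.sum_comm,
        Finset.sum_congr rfl fun i _ => h2 i, Finset.sum_const, Finset.card_range, nsmul_eq_mul]
      ring
    have hpars : (Cfsg.classInner F' F').re =
        ∑ η : Cfsg.IrrCharacter H, Complex.normSq (Cfsg.classInner F' (η : H → ℂ)) := by
      conv_lhs => arg 1; arg 1; rw [classFun_eq_sum hF'cl]
      rw [classInner_sum_left, Complex.re_sum]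
      refine Finset.sum_congr rfl fun η _ => ?_
      rw [classInner_smul_left, show Cfsg.classInner (η : H → ℂ) F' =
        conj (Cfsg.classInner F' (η : H → ℂ)) from classInner_conj_symm _ _, Complex.mul_conj,
        Complex.ofReal_re]
    have hbessel : ∑ ψ ∈ Xf ∪ Yf, ((t ψ : ℝ) / p) ^ 2 ≤
        (p : ℝ) / (Nat.card H : ℝ) * (regSum p F F).re := by
      have h1 : ((p : ℂ) / (Nat.card H : ℂ) * regSum p F F).re =
          (p : ℝ) / (Nat.card H : ℝ) * (regSum p F F).re := by
        rw [show (p : ℂ) / (Nat.card H : ℂ) = (((p : ℝ) / (Nat.card H : ℝ) : ℝ) : ℂ) by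
          push_cast; rfl, Complex.re_ofReal_mul]
      rw [← h1, ← hnorm, hpars]
      refine le_trans (le_of_eq ?_) (Finset.sum_le_sum_of_subset_of_nonneg
        (Finset.subset_univ ((Xf ∪ Yf).image ι)) fun η _ _ => Complex.normSq_nonneg _)
      rw [Finset.sum_image fun a _ b _ h => hιinj h]
      refine Finset.sum_congr rfl fun ψ hψ => ?_
      rw [hcoef ψ hψ, show (t ψ : ℂ) / (p : ℂ) = (((t ψ : ℝ) / p : ℝ) : ℂ) by push_cast; rfl,
        Complex.normSq_ofReal, sq]
    have hq' : (p : ℝ) * e ≤ ∑ ψ ∈ Xf ∪ Yf, (t ψ : ℝ) ^ 2 := by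
      rw [← hsumt, hXf'] at hq
      exact_mod_cast hq
    have hp0 : (0 : ℝ) < p := Nat.cast_pos.2 hp.pos
    simp only [div_pow, ← Finset.sum_div] at hbessel
    rw [div_le_iff₀ (by positivity)] at hbessel
    refine le_of_mul_le_mul_left (a := (p : ℝ)) ?_ hp0
    refine hq'.trans (hbessel.trans (le_of_eq ?_))
    ring

end Cfsg.Agent.BlockCharsA.SmallCent
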