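import Mathlib
import Cfsg.Agent.BlockCharsA.SmallCent.Quotient
import Cfsg.Agent.BlockCharsA.HeightInertial.SelfContrib
import Cfsg.Agent.BlockCharsA.HeightInertial.Mean

/-!
# Characters of degree prime to `p` when a centraliser of a `p`-element is small
-/

set_option linter.style.haveILetI false
set_option linter.unusedSectionVars false

namespace Cfsg.Agent.BlockCharsA.SmallCent

open Cfsg.Agent.Blocks Cfsg.Agent.Characters Cfsg.Agent.BlockCharsA
open Cfsg.Agent.BlockCharsA.RegularPart Cfsg.Agent.BlockCharsA.HeightInertial Polynomial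
open scoped ComplexConjugate

universe u

variable {G : Type u} [Group G] [Finite G] {p : ℕ} [Fact p.Prime] {M : Ideal Cfsg.AlgInt}

/-- The non-trivial Fourier coefficients measure the differences. -/
theorem fourier_pairs {n : ℕ} (hn : 0 < n) {ζ : ℂ} (hζ : IsPrimitiveRoot ζ n) (a : ℕ → ℂ) :
    2 * ∑ j ∈ (Finset.range n).erase 0,
        Complex.normSq (∑ t ∈ Finset.range n, (ζ ^ j) ^ t * a t) =
      ∑ s ∈ Finset.range n, ∑ t ∈ Finset.range n, Complex.normSq (a s - a t) := by
  classical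
  apply Complex.ofReal_injective
  simp only [Complex.ofReal_sum, Complex.ofReal_mul, ← Complex.mul_conj, Complex.ofReal_ofNat]
  have hpair : ∑ s ∈ Finset.range n, ∑ t ∈ Finset.range n, (a s - a t) * conj (a s - a t) =
      2 * (n : ℂ) * (∑ t ∈ Finset.range n, a t * conj (a t)) -
        2 * ((∑ t ∈ Finset.range n, a t) * conj (∑ t ∈ Finset.range n, a t)) := by
    simp only [map_sub, map_sum, sub_mul, mul_sub, Finset.sum_sub_distrib, Finset.sum_const,
      Finset.card_range, nsmul_eq_mul, ← Finset.mul_sum, ← Finset.sum_mul]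
    ring
  have hfull : ∑ j ∈ Finset.range n,
      (∑ t ∈ Finset.range n, (ζ ^ j) ^ t * a t) * conj (∑ t ∈ Finset.range n, (ζ ^ j) ^ t * a t) =
      (n : ℂ) * ∑ t ∈ Finset.range n, a t * conj (a t) := by
    simp only [map_sum, Finset.sum_mul, Finset.mul_sum]
    rw [Finset.sum_comm]
    refine Finset.sum_congr rfl fun s hs => ?_
    rw [Finset.sum_comm, Finset.sum_eq_single s]
    · refine (Finset.sum_congr rfl fun j _ => ?_).trans
        (show ∑ _j ∈ Finset.range n, a s * conj (a s) = _ by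
          rw [Finset.sum_const, Finset.card_range, nsmul_eq_mul])
      have h1 : conj ((ζ ^ j) ^ s) * (ζ ^ j) ^ s = 1 := by
        rw [Subsection.conj_eq_inv_of_pow hn.ne' (μ := (ζ ^ j) ^ s) (by
          rw [pow_right_comm _ s n, pow_right_comm ζ j n, hζ.pow_eq_one, one_pow, one_pow])]
        exact inv_mul_cancel₀ (pow_ne_zero _ (pow_ne_zero _ (hζ.ne_zero hn.ne')))
      rw [map_mul]
      linear_combination (a s * conj (a s)) * h1
    · intro t ht hne
      have hne' : ζ ^ t / ζ ^ s ≠ 1 := fun h => hne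
        (hζ.pow_inj (Finset.mem_range.1 ht) (Finset.mem_range.1 hs) ((div_eq_one_iff_eq
          (pow_ne_zero _ (hζ.ne_zero hn.ne'))).1 h))
      have hterm : ∀ j : ℕ, (ζ ^ j) ^ t * a t * conj ((ζ ^ j) ^ s * a s) =
          (ζ ^ t / ζ ^ s) ^ j * (a t * conj (a s)) := fun j => by
        rw [map_mul, map_pow, map_pow, Subsection.conj_eq_inv_of_pow hn.ne' hζ.pow_eq_one,
          div_pow, ← pow_mul, ← pow_mul, ← pow_mul, ← pow_mul, mul_comm t j, mul_comm s j,
          inv_pow, div_eq_mul_inv]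
        ring
      rw [Finset.sum_congr rfl fun j _ => hterm j, ← Finset.sum_mul, geom_sum_eq hne', div_pow,
        ← pow_mul, ← pow_mul, mul_comm s, mul_comm t, pow_mul, pow_mul, hζ.pow_eq_one, one_pow,
        one_pow, div_one, sub_self, zero_div, zero_mul]
    · exact fun h => absurd hs h
  have h0 : (∑ t ∈ Finset.range n, (ζ ^ 0) ^ t * a t) = ∑ t ∈ Finset.range n, a t :=
    Finset.sum_congr rfl fun t _ => by rw [pow_zero, one_pow, one_mul]
  rw [← Finset.add_sum_erase _ _ (Finset.mem_range.2 hn), h0] at hfull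
  rw [hpair]
  linear_combination 2 * hfull

theorem ratio_one {H : Type u} [Group H] [Finite H] (hM : Cfsg.IsPModular p M)
    (η : Cfsg.IrrCharacter H) :
    ratio p (η : H → ℂ) (trivIrr H : H → ℂ) =
      ((p ^ (Nat.card H).factorization p : ℕ) : ℂ) / (Nat.card H : ℂ) *
        regSum p (η : H → ℂ) (fun _ => 1) := by
  haveI := Fintype.ofFinite H
  obtain ⟨w, hw, hw', -⟩ := exists_coeff hM η (trivIrr H)
  have h1 : Cfsg.charDegree (trivIrr H : H → ℂ) = 1 := by simp [Cfsg.charDegree, trivIrr]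
  rw [h1, Nat.cast_one, one_mul] at hw'
  rw [Contrib.classInner_hat_regSum, hw'] at hw
  exact hw.symm

theorem height_zero_of_not_dvd (B : Set (Cfsg.IrrCharacter G)) {χ : G → ℂ}
    (h : ¬ p ∣ Cfsg.charDegree χ) : Cfsg.blockHeight p B χ = 0 := by
  rw [Cfsg.blockHeight, Nat.factorization_eq_zero_of_not_dvd h, Nat.zero_sub]

theorem induced_principal [Fintype G] (hM : Cfsg.IsPModular p M) {x : G}
    (hx : ∃ k : ℕ, orderOf x = p ^ k) :
    Cfsg.IsInducedBlock M (Subgroup.centralizer ({x} : Set G))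
      (Cfsg.principalBlock M (Subgroup.centralizer ({x} : Set G))) (Cfsg.principalBlock M G) := by
  obtain ⟨k, hk⟩ := hx
  refine (third_main hM (inducedBlockDefined_of_brauer hM
    (P := Subgroup.zpowers x) (isPGroup_zpowers hk) ?_ ?_ ?_ (isPBlock_principal M _))).2 rfl
  · exact Subgroup.zpowers_le.2 (Subgroup.mem_centralizer_singleton_iff.2 rfl)
  · refine Subgroup.centralizer_le ?_
    exact Set.singleton_subset_iff.2 (Subgroup.mem_zpowers x)
  · refine le_trans (fun c hc => Subgroup.mem_centralizer_iff.2 fun t ht => ?_)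
      (centralizer_le_normalizer' (Subgroup.zpowers x))
    obtain ⟨i, rfl⟩ := Subgroup.mem_zpowers_iff.1 ht
    exact ((show Commute x c from
      (Subgroup.mem_centralizer_singleton_iff.1 hc).symm).zpow_left i).eq

set_option maxHeartbeats 1000000 in
/-- The lower bound on the weights of a character of height zero. -/
theorem weight_ge [Fintype G] (hM : Cfsg.IsPModular p M) (hodd : p ≠ 2) {x : G}
    (hxo : orderOf x = p)
    (hC : (Nat.card (Subgroup.centralizer ({x} : Set G))).factorization p = 2) :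
    ∃ e : ℕ, 0 < e ∧
      Cfsg.blockRank p (Cfsg.principalBlock M (Subgroup.centralizer ({x} : Set G))) ≤ e ∧
      ∀ {ζ : ℂ}, IsPrimitiveRoot ζ p → ∀ χ : Cfsg.IrrCharacter G, χ ∈ Cfsg.principalBlock M G →
        ¬ p ∣ Cfsg.charDegree (χ : G → ℂ) → ∀ P : ℚ[X],
        (∀ j : ℕ, aeval (ζ ^ j) P = selfW p (Subgroup.centralizer ({x} : Set G))
          (Cfsg.principalBlock M (Subgroup.centralizer ({x} : Set G))) (x ^ j) (χ : G → ℂ)) →
        ((primitiveRoots p ℂ).card : ℝ) * e ≤ ∑ μ ∈ primitiveRoots p ℂ, (aeval μ P).re := by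
  classical
  have hp : p.Prime := Fact.out
  set C := Subgroup.centralizer ({x} : Set G) with hCdef
  haveI := Fintype.ofFinite C
  haveI := Fintype.ofFinite (Cfsg.IrrCharacter C)
  have huo : orderOf (Subsection.own x) = p := by
    rw [← hxo, ← Subgroup.orderOf_coe]
    rfl
  obtain ⟨e, he0, hrank, hbound⟩ := exists_rank_bound (M := M) hM hodd
    (Subsection.self_commute x) huo hC
  refine ⟨e, he0, hrank, fun {ζ} hζ χ hχ hdeg P hP => ?_⟩
  have hind := induced_principal hM (x := x) ⟨1, by rw [pow_one, hxo]⟩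
  set b0 := Cfsg.principalBlock M C with hb0
  have hdef : Cfsg.blockDefect p b0 = 2 := by rw [Cfsg.Agent.S4652.defect_principal hM, hC]
  obtain ⟨z, hz, -⟩ := Contrib.exists_matrix hM hind.1
  set bs := Finset.univ.filter (· ∈ b0) with hbs
  set u := Subsection.own x with hudef
  have hu : ∀ c : C, Commute u c := Subsection.self_commute x
  have huq : u ^ p = 1 := by rw [← huo, pow_orderOf_eq_one]
  haveI : NeZero p := ⟨hp.ne_zero⟩
  have hex : ∀ η : Cfsg.IrrCharacter C, ∃ i : ℕ, i < p ∧ ζ ^ i = (η : C → ℂ) u / (η : C → ℂ) 1 :=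
    fun η => hζ.eq_pow_of_pow_eq_one
      (classInner_mul_left_central hp.ne_zero huq hu (fun _ => (0 : ℂ)) η).2.1
  choose E hE hEv using hex
  have hn' : ∀ η : Cfsg.IrrCharacter C, ∃ n : ℕ,
      Cfsg.classInner (fun c : C => (χ : G → ℂ) c) (η : C → ℂ) = (n : ℂ) :=
    fun η => classInner_char_nat (isCharacter_restrict _ (irr_isCharacter χ)) (irr_isCharacter η)
  choose n hn using hn'
  set f : ℕ → C → ℂ := fun t c =>
    ∑ η ∈ bs.filter (fun η => E η = t), (n η : ℂ) * (η : C → ℂ) c with hf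
  have hpart : ∀ (j : ℕ) (c : C), secPart C b0 (x ^ j) (χ : G → ℂ) c =
      ∑ t ∈ Finset.range p, (ζ ^ j) ^ t * f t c := by
    intro j c
    have hcj : ∀ c : C, Commute (u ^ j) c := fun c => (hu c).pow_left j
    have hqj : (u ^ j) ^ p = 1 := by rw [← pow_mul, mul_comm, pow_mul, huq, one_pow]
    rw [secPart, blockPart_sum]
    simp only [f, Finset.mul_sum]
    rw [← Finset.sum_fiberwise_of_maps_to (t := Finset.range p) (g := E)
      fun η _ => Finset.mem_range.2 (hE η)]
    refine Finset.sum_congr rfl fun t _ => Finset.sum_congr (by simp [bs]) fun η hη => ?_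
    obtain ⟨h1, -, -⟩ := classInner_mul_left_central hp.ne_zero hqj hcj (χ : G → ℂ) η
    rw [Subgroup.coe_pow, show ((u : C) : G) = x from rfl] at h1
    rw [h1, hn, (classInner_mul_left_central hp.ne_zero huq hu (χ : G → ℂ) η).2.2 j, ← hEv η,
      (Finset.mem_filter.1 hη).2, ← pow_mul, ← pow_mul, mul_comm t]
    ring
  set k0 : ℝ := (p : ℝ) ^ 2 / (Nat.card C : ℝ) with hk0
  set N : ℕ → ℕ → ℝ := fun s t =>
    k0 * (regSum p (fun c => f s c - f t c) (fun c => f s c - f t c)).re with hN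
  have hW : ∀ j : ℕ, (aeval (ζ ^ j) P).re = k0 * ∑ c : C,
      if ¬ p ∣ orderOf c then Complex.normSq (∑ t ∈ Finset.range p, (ζ ^ j) ^ t * f t c)
      else 0 := by
    intro j
    obtain ⟨r, -, hr, hr'⟩ := selfW_real (p := p) C b0 (x ^ j) (χ : G → ℂ)
    rw [hP j, hr, Complex.ofReal_re, hr', regSum_self_re, hdef, Nat.cast_pow]
    simp only [hpart, hk0]
  have hroots : primitiveRoots p ℂ = ((Finset.range p).erase 0).image fun j => ζ ^ j := by
    ext μ
    rw [mem_primitiveRoots hp.pos, Finset.mem_image]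
    constructor
    · intro hμ
      obtain ⟨i, hi, rfl⟩ := hζ.eq_pow_of_pow_eq_one hμ.pow_eq_one
      refine ⟨i, Finset.mem_erase.2 ⟨fun h => ?_, Finset.mem_range.2 hi⟩, rfl⟩
      rw [h, pow_zero] at hμ
      exact hp.ne_one (IsPrimitiveRoot.unique hμ IsPrimitiveRoot.one)
    · rintro ⟨i, hi, rfl⟩
      obtain ⟨hi0, hip⟩ := Finset.mem_erase.1 hi
      exact hζ.pow_of_coprime i ((hp.coprime_iff_not_dvd.2 fun hd => hi0
        (Nat.eq_zero_of_dvd_of_lt hd (Finset.mem_range.1 hip))).symm)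
  have hinj : Set.InjOn (fun j => ζ ^ j) ((Finset.range p).erase 0 : Finset ℕ) := fun i hi j hj h =>
    hζ.pow_inj (Finset.mem_range.1 (Finset.mem_of_mem_erase hi))
      (Finset.mem_range.1 (Finset.mem_of_mem_erase hj)) h
  have hsum : 2 * ∑ μ ∈ primitiveRoots p ℂ, (aeval μ P).re =
      ∑ s ∈ Finset.range p, ∑ t ∈ Finset.range p, N s t := by
    rw [hroots, Finset.sum_image hinj, Finset.sum_congr rfl fun j _ => hW j, ← Finset.mul_sum,
      Finset.sum_comm, mul_left_comm, Finset.mul_sum (a := (2 : ℝ))]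
    simp only [hN, ← Finset.mul_sum, regSum_self_re]
    congr 1
    conv_rhs => arg 2; ext s; rw [Finset.sum_comm]
    conv_rhs => rw [Finset.sum_comm]
    rw [Finset.mul_sum]
    refine Finset.sum_congr rfl fun c _ => ?_
    by_cases hc : p ∣ orderOf c
    · simp [hc]
    · simp only [hc, not_false_eq_true, if_true]
      exact fourier_pairs hp.pos hζ fun t => f t c
  set T : ℕ → ℂ := fun s => regSum p (f s) (fun _ => 1) with hT
  have hNnn : ∀ s t, 0 ≤ N s t := fun s t => by
    simp only [hN, regSum_self_re]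
    refine mul_nonneg (by positivity) (Finset.sum_nonneg fun c _ => ?_)
    split
    · exact Complex.normSq_nonneg _
    · exact le_rfl
  have hNe : ∀ s t, T s ≠ T t → (e : ℝ) ≤ N s t := by
    intro s t hst
    refine hbound (fun η => (if E η = s then (n η : ℤ) else 0) - if E η = t then (n η : ℤ) else 0)
      _ ?_ ?_
    · funext c
      simp only [f, Int.cast_sub, apply_ite (Int.cast : ℤ → ℂ), Int.cast_natCast, Int.cast_zero,
        sub_mul, ite_mul, zero_mul, Finset.sum_sub_distrib, ← Finset.sum_filter]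
      congr 1 <;> exact Finset.sum_congr (by ext; simp [bs, b0]) fun _ _ => rfl
    · intro h
      refine hst ?_
      rw [← sub_eq_zero, ← h]
      simp only [T, regSum_eq_sum, ← Finset.sum_sub_distrib]
      refine Finset.sum_congr rfl fun c _ => ?_
      split <;> simp
  have hex2 : ∃ s ∈ Finset.range p, ¬ T s = T 0 := by
    by_contra hall
    push Not at hall
    set cst : ℂ := ((p ^ 2 : ℕ) : ℂ) / (Nat.card C : ℂ) with hcst
    have hcstT : ∀ s, cst * T s = ((∑ η ∈ bs.filter (fun η => E η = s),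
        (n η : ℤ) * z η (trivIrr C) : ℤ) : ℂ) := by
      intro s
      simp only [T, f]
      rw [regSum_sum_left, Finset.mul_sum, Int.cast_sum]
      refine Finset.sum_congr rfl fun η hη => ?_
      rw [Int.cast_mul, Int.cast_natCast, ← hz η (Finset.mem_filter.1 (Finset.mem_filter.1 hη).1).2
        (trivIrr C) (trivIrr_mem_principal hM), Contrib.contrib, hdef]
      show _ = _ * (_ * regSum p (η : C → ℂ) (fun _ => 1))
      ring
    refine Subsection.sum_mult_ratio_unit hM hind hχ (height_zero_of_not_dvd _ hdeg)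
      (trivIrr_mem_principal hM) n hn ?_
    have hR : ∑ η ∈ bs, (n η : ℂ) * ratio p (η : C → ℂ) (trivIrr C : C → ℂ) =
        ∑ s ∈ Finset.range p, cst * T s := by
      rw [← Finset.sum_fiberwise_of_maps_to (t := Finset.range p) (g := E)
        fun η _ => Finset.mem_range.2 (hE η)]
      refine Finset.sum_congr rfl fun s _ => ?_
      simp only [T, f]
      rw [regSum_sum_left, Finset.mul_sum]
      refine Finset.sum_congr rfl fun η _ => ?_
      rw [ratio_one hM η, hC]
      ring
    rw [show (∑ η ∈ Finset.univ.filter (· ∈ b0),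
        (n η : ℂ) * ratio p (η : C → ℂ) (trivIrr C : C → ℂ)) = _ from hR,
      Finset.sum_congr rfl fun s hs => by rw [hall s hs, hcstT 0], Finset.sum_const,
      Finset.card_range, nsmul_eq_mul, ← Int.cast_natCast p, ← Int.cast_mul,
      ideal_intCast_iff hM]
    exact dvd_mul_right _ _
  have hlow := pairs_lower (Finset.range p) N (c := (e : ℝ)) (Nat.cast_nonneg e)
    (fun s _ t _ => hNnn s t) (fun s => T s = T 0) ⟨0, Finset.mem_range.2 hp.pos, rfl⟩ hex2
    fun s _ t _ hst => hNe s t fun h => by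
      rw [h] at hst
      exact iff_not_self hst
  rw [← hsum, Finset.card_range] at hlow
  have hcard : ((primitiveRoots p ℂ).card : ℝ) = (p : ℝ) - 1 := by
    rw [hζ.card_primitiveRoots, Nat.totient_prime hp, Nat.cast_sub hp.one_le, Nat.cast_one]
  rw [hcard]
  linarith

set_option maxHeartbeats 1000000 in
/-- The count for a non-trivial `p`-element. -/
theorem card_le_of_ne_one [Fintype G] (hM : Cfsg.IsPModular p M) {x : G} {k : ℕ}
    (hk : orderOf x = p ^ k) (hx1 : x ≠ 1)
    (hd : (Nat.card (Subgroup.centralizer ({x} : Set G))).factorization p ≤ 2) :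
    Nat.card {χ : Cfsg.IrrCharacter G //
      χ ∈ Cfsg.principalBlock M G ∧ ¬ p ∣ Cfsg.charDegree (χ : G → ℂ)} ≤ p ^ 2 := by
  classical
  have hp : p.Prime := Fact.out
  haveI := Fintype.ofFinite (Cfsg.IrrCharacter G)
  set C := Subgroup.centralizer ({x} : Set G) with hCdef
  haveI := Fintype.ofFinite C
  haveI := Fintype.ofFinite (Cfsg.IrrCharacter C)
  set d := (Nat.card C).factorization p with hddef
  set b0 := Cfsg.principalBlock M C with hb0
  set B0 := Cfsg.principalBlock M G with hB0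
  set u := Subsection.own x with hudef
  have hu : ∀ c : C, Commute u c := Subsection.self_commute x
  have huo : orderOf u = p ^ k := by
    rw [← hk, ← Subgroup.orderOf_coe]
    rfl
  have hx : ∃ k : ℕ, orderOf x = p ^ k := ⟨k, hk⟩
  have hind := induced_principal hM hx
  have hdef : Cfsg.blockDefect p b0 = d := Cfsg.Agent.S4652.defect_principal hM
  have hk0 : k ≠ 0 := fun h => hx1 (orderOf_eq_one_iff.1 (by rw [hk, h, pow_zero]))
  have hkd : k ≤ d := by
    rw [hddef, ← hp.pow_dvd_iff_le_factorization Nat.card_pos.ne', ← huo]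
    exact orderOf_dvd_natCard u
  set q := p ^ k with hqdef
  have hq0 : q ≠ 0 := pow_ne_zero _ hp.ne_zero
  have huq : u ^ q = 1 := by rw [← huo, pow_orderOf_eq_one]
  obtain ⟨ζ, hζ⟩ : ∃ ζ : ℂ, IsPrimitiveRoot ζ q := ⟨_, Complex.isPrimitiveRoot_exp q hq0⟩
  choose P hPint hP using fun χ : Cfsg.IrrCharacter G =>
    exists_poly hM hind.1 hu hq0 huq hζ χ
  have hP' : ∀ χ j, aeval (ζ ^ j) (P χ) = selfW p C b0 (x ^ j) (χ : G → ℂ) := fun χ j => hP χ j
  have hnn : ∀ χ, ∀ μ ∈ primitiveRoots q ℂ,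
      0 ≤ (aeval μ (P χ)).re ∧ aeval μ (P χ) = ((aeval μ (P χ)).re : ℂ) := by
    intro χ μ hμ
    haveI : NeZero q := ⟨hq0⟩
    obtain ⟨j, -, rfl⟩ := hζ.eq_pow_of_pow_eq_one
      ((mem_primitiveRoots (Nat.pos_of_ne_zero hq0)).1 hμ).pow_eq_one
    obtain ⟨r, hr0, hr, -⟩ := selfW_real (p := p) C b0 (x ^ j) (χ : G → ℂ)
    rw [hP', hr, Complex.ofReal_re]
    exact ⟨hr0, rfl⟩
  set l := Cfsg.blockRank p b0 with hl
  set Bs := Finset.univ.filter (· ∈ B0) with hBs
  have hζsum : aeval ζ (∑ χ ∈ Bs, P χ) = ((((p ^ d * l : ℕ) : ℚ)) : ℂ) := by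
    rw [map_sum, Rat.cast_natCast, Nat.cast_mul, hl, Rank.blockRank_eq_trace hM
      (intEl_blockIdem hM hind.1), Finset.mul_sum]
    have h1 : ∀ χ : Cfsg.IrrCharacter G, aeval ζ (P χ) =
        ((p ^ d : ℕ) : ℂ) / (Nat.card C : ℂ) *
          ∑ c : C, if ¬ p ∣ orderOf c then
            secPart C b0 x (χ : G → ℂ) c * conj (secPart C b0 x (χ : G → ℂ) c) else 0 := by
      intro χ
      have h2 := hP' χ 1
      rw [pow_one, pow_one] at h2
      rw [h2, selfW, hdef, regSum_eq_sum]
    rw [Finset.sum_congr rfl fun χ _ => h1 χ]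
    simp only [Finset.mul_sum]
    rw [Finset.sum_comm]
    refine Finset.sum_congr rfl fun c _ => ?_
    by_cases hc : p ∣ orderOf c
    · simp [hc]
    · simp only [hc, not_false_eq_true, if_true, ← Finset.mul_sum]
      have h3 := Subsection.gram_block hM hx hind hc hc
      rw [ZStar.Principal.finsum_mem_eq_sum_filter] at h3
      have h4 : ∑ χ ∈ Bs, secPart C b0 x (χ : G → ℂ) c * conj (secPart C b0 x (χ : G → ℂ) c) =
          (Nat.card C : ℂ) * blockKernelAt b0 c c := h3 ▸ Finset.sum_congr (by ext; simp [Bs, B0])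
            fun _ _ => rfl
      rw [h4]
      have : (Nat.card C : ℂ) ≠ 0 := Nat.cast_ne_zero.2 Nat.card_pos.ne'
      field_simp
      rfl
  have hswap : ∀ μ ∈ primitiveRoots q ℂ,
      ∑ χ ∈ Bs, (aeval μ (P χ)).re = ((p ^ d * l : ℕ) : ℝ) := by
    intro μ hμ
    have h1 := aeval_eq_rat_of_primitive (Nat.pos_of_ne_zero hq0) hζ
      ((mem_primitiveRoots (Nat.pos_of_ne_zero hq0)).1 hμ) _ hζsum
    rw [← Complex.re_sum, ← map_sum, h1, Rat.cast_natCast, Complex.natCast_re]
  obtain ⟨L, hL, hlL, key⟩ : ∃ L : ℕ, 0 < L ∧ l ≤ L ∧ ∀ χ ∈ B0,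
      ¬ p ∣ Cfsg.charDegree (χ : G → ℂ) →
      ((primitiveRoots q ℂ).card : ℝ) * L ≤ ∑ μ ∈ primitiveRoots q ℂ, (aeval μ (P χ)).re := by
    by_cases hl1 : l = 1
    · refine ⟨1, one_pos, hl1.le, fun χ hχ hdeg => ?_⟩
      have hne : ∀ μ ∈ primitiveRoots q ℂ, aeval μ (P χ) ≠ 0 := by
        intro μ hμ h0
        have h1 := aeval_eq_rat_of_primitive (Nat.pos_of_ne_zero hq0)
          ((mem_primitiveRoots (Nat.pos_of_ne_zero hq0)).1 hμ) hζ (P χ) (q := 0)
          (by rw [h0, Rat.cast_zero])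
        have h2 := hP' χ 1
        rw [pow_one, pow_one, h1, Rat.cast_zero] at h2
        exact selfW_unit hM hx hind hχ (height_zero_of_not_dvd _ hdeg)
          (h2 ▸ ideal_zero hM)
      have := mean_ge hM (Nat.pos_of_ne_zero hq0) (P χ) 0 (fun μ => (aeval μ (P χ)).re)
        (fun μ hμ => hPint χ μ ((mem_primitiveRoots (Nat.pos_of_ne_zero hq0)).1 hμ).pow_eq_one)
        (fun μ hμ => ⟨lt_of_le_of_ne (hnn χ μ hμ).1 fun h => hne μ hμ (by
          rw [(hnn χ μ hμ).2, ← h, Complex.ofReal_zero]), (hnn χ μ hμ).2⟩)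
        fun μ hμ => by
          rw [pow_zero, div_one]
          exact ring_of_isIntegral hM
            (hPint χ μ ((mem_primitiveRoots (Nat.pos_of_ne_zero hq0)).1 hμ).pow_eq_one)
      simpa using this
    · have hkne : k ≠ d := fun h => hl1 (rank_one_of_central hM hu (huo.trans (congrArg (p ^ ·) h)))
      obtain rfl : k = 1 := by omega
      have hd2 : d = 2 := by omega
      have hodd : p ≠ 2 := fun h => hl1 (rank_one_two hM h hu (huo.trans (pow_one p)) hd2)
      obtain ⟨e, he, hle, hw⟩ := weight_ge (M := M) hM hodd (hk.trans (pow_one p)) hd2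
      refine ⟨e, he, hle, fun χ hχ hdeg => ?_⟩
      have hqp : q = p := pow_one p
      rw [hqp]
      exact hw (hqp ▸ hζ) χ hχ hdeg (P χ) (hP' χ)
  set S := Bs.filter (fun χ : Cfsg.IrrCharacter G => ¬ p ∣ Cfsg.charDegree (χ : G → ℂ)) with hS
  have hpr : (0 : ℝ) < ((primitiveRoots q ℂ).card : ℝ) := by
    exact_mod_cast Finset.card_pos.2 ⟨ζ, (mem_primitiveRoots (Nat.pos_of_ne_zero hq0)).2 hζ⟩
  have hchain : ((primitiveRoots q ℂ).card : ℝ) * ((S.card : ℝ) * L) ≤
      ((primitiveRoots q ℂ).card : ℝ) * ((p ^ d : ℕ) * L : ℝ) := by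
    calc ((primitiveRoots q ℂ).card : ℝ) * ((S.card : ℝ) * L)
        = ∑ χ ∈ S, ((primitiveRoots q ℂ).card : ℝ) * L := by
          rw [Finset.sum_const, nsmul_eq_mul]; ring
      _ ≤ ∑ χ ∈ S, ∑ μ ∈ primitiveRoots q ℂ, (aeval μ (P χ)).re :=
          Finset.sum_le_sum fun χ hχ => by
            simp only [S, Bs, Finset.mem_filter, Finset.mem_univ, true_and] at hχ
            exact key χ hχ.1 hχ.2
      _ ≤ ∑ χ ∈ Bs, ∑ μ ∈ primitiveRoots q ℂ, (aeval μ (P χ)).re :=
          Finset.sum_le_sum_of_subset_of_nonneg (Finset.filter_subset _ _) fun χ _ _ =>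
            Finset.sum_nonneg fun μ hμ => (hnn χ μ hμ).1
      _ = ((primitiveRoots q ℂ).card : ℝ) * ((p ^ d * l : ℕ) : ℝ) := by
          rw [Finset.sum_comm, Finset.sum_congr rfl hswap, Finset.sum_const, nsmul_eq_mul]
      _ ≤ _ := by
          refine mul_le_mul_of_nonneg_left ?_ hpr.le
          rw [Nat.cast_mul]
          exact mul_le_mul_of_nonneg_left (by exact_mod_cast hlL) (Nat.cast_nonneg _)
  have h1 : (S.card : ℝ) ≤ ((p ^ d : ℕ) : ℝ) :=
    le_of_mul_le_mul_right (le_of_mul_le_mul_left hchain hpr) (Nat.cast_pos.2 hL)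
  have h2 : S.card ≤ p ^ d := by exact_mod_cast h1
  refine le_trans (le_of_eq ?_) (h2.trans (Nat.pow_le_pow_right hp.pos hd))
  rw [Nat.card_eq_fintype_card, Fintype.card_subtype]
  congr 1
  ext χ
  simp [S, Bs, B0]

end Cfsg.Agent.BlockCharsA.SmallCent
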